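import Cfsg.Agent.H94.Pronormal
set_option linter.all false

/-!
# Small lemmas on conjugates (helper457)
-/

set_option autoImplicit false

namespace Cfsg.Agent.H457

open Subgroup

variable {G : Type*} [Group G]

/-- if `g H g⁻¹ = H` (as `map`), then `g` normalizes `H` -/
theorem mem_normalizer_of_map_conj_eq {H : Subgroup G} {g : G}
    (h : H.map (MulAut.conj g).toMonoidHom = H) : g ∈ normalizer (H : Set G) := by
  rw [Subgroup.mem_normalizer_iff]
  intro y
  constructor
  · intro hy
    rw [← h]
    exact ⟨y, hy, rfl⟩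
  · intro hy
    rw [← h] at hy
    obtain ⟨z, hz, hze⟩ := hy
    have h1 : g * z * g⁻¹ = g * y * g⁻¹ := hze
    have : z = y := mul_left_cancel (mul_right_cancel h1)
    exact this ▸ hz

theorem map_conj_eq_iff {H : Subgroup G} {g : G} :
    H.map (MulAut.conj g).toMonoidHom = H ↔ g ∈ normalizer (H : Set G) :=
  ⟨mem_normalizer_of_map_conj_eq, H94.Pronormal.map_conj_of_mem_normalizer⟩

end Cfsg.Agent.H457
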